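import Groth.Agent.Lib.Helper5.FlatCA.FiberAssFlat

set_option autoImplicit false
universe u v w

open TensorProduct

namespace H5FiberAss

open FlatCA

section General

variable {S : Type u} [CommRing S] {A : Type v} {B : Type w} [AddCommGroup A] [AddCommGroup B]
  [Module S A] [Module S B]

lemma ass_subset_of_injective (F : A →ₗ[S] B) (hF : Function.Injective F) :
    FlatCA.ass S A ⊆ FlatCA.ass S B := by
  rintro q ⟨hq, a, ha⟩
  refine ⟨hq, F a, ?_⟩
  ext s
  rw [ha, Submodule.mem_annihilator_span_singleton, Submodule.mem_annihilator_span_singleton,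
    ← map_smul, ← map_zero F, hF.eq_iff]

lemma ass_eq_empty_of_subsingleton [Subsingleton A] : FlatCA.ass S A = ∅ := by
  ext q
  simp only [Set.mem_empty_iff_false, iff_false]
  rintro ⟨hq, a, ha⟩
  apply hq.ne_top
  rw [ha, Ideal.eq_top_iff_one, Submodule.mem_annihilator_span_singleton]
  exact Subsingleton.elim _ _

lemma ass_subset_union_of_exact {C : Type*} [AddCommGroup C] [Module S C]
    (F : A →ₗ[S] B) (G : B →ₗ[S] C) (hF : Function.Injective F) (hFG : Function.Exact F G) :
    FlatCA.ass S B ⊆ FlatCA.ass S A ∪ FlatCA.ass S C := by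
  rintro q ⟨hq, z, hz⟩
  by_cases h : q = (Submodule.span S {G z}).annihilator
  · right
    exact ⟨hq, G z, h⟩
  · left
    have hle : q ≤ (Submodule.span S {G z}).annihilator := by
      intro s hs
      rw [hz, Submodule.mem_annihilator_span_singleton] at hs
      rw [Submodule.mem_annihilator_span_singleton, ← map_smul, hs, map_zero]
    obtain ⟨s, hs1, hs2⟩ : ∃ s, s ∈ (Submodule.span S {G z}).annihilator ∧ s ∉ q := by
      by_contra hcon
      push_neg at hcon
      exact h (le_antisymm hle hcon)
    rw [Submodule.mem_annihilator_span_singleton, ← map_smul] at hs1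
    obtain ⟨a, ha⟩ := (hFG (s • z)).1 hs1
    refine ⟨hq, a, ?_⟩
    ext t
    rw [Submodule.mem_annihilator_span_singleton, ← hF.eq_iff, map_smul, ha, map_zero, smul_smul]
    constructor
    · intro ht
      have : t * s ∈ q := Ideal.mul_mem_right _ _ ht
      rwa [hz, Submodule.mem_annihilator_span_singleton] at this
    · intro ht
      have : t * s ∈ q := by rwa [hz, Submodule.mem_annihilator_span_singleton]
      rcases hq.mem_or_mem this with h' | h'
      · exact h'
      · exact absurd h' hs2

end General

end H5FiberAss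

namespace H5FiberAss

open FlatCA

variable {R S : Type u} [CommRing R] [CommRing S] [Algebra R S] (N : Type u) [AddCommGroup N]
  [Module S N] [Module R N] [IsScalarTower R S N]

lemma comap_eq_of_mem_ass_quotient [Module.Flat R N] (p : Ideal R) [p.IsPrime] (q : Ideal S)
    (h : q ∈ FlatCA.ass S (N ⧸ (p.map (algebraMap R S)) • (⊤ : Submodule S N))) :
    q.comap (algebraMap R S) = p := by
  obtain ⟨hq, nbar, hn⟩ := h
  obtain ⟨n, rfl⟩ := Submodule.Quotient.mk_surjective _ nbar
  ext r
  rw [Ideal.mem_comap, hn, Submodule.mem_annihilator_span_singleton, ← Submodule.Quotient.mk_smul,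
    Submodule.Quotient.mk_eq_zero, algebraMap_smul]
  constructor
  · intro h
    by_contra hr
    have h1 := H5FiberAss.mem_of_smul_mem_of_flat N p hr h
    apply hq.ne_top
    rw [hn, Ideal.eq_top_iff_one, Submodule.mem_annihilator_span_singleton, one_smul,
      Submodule.Quotient.mk_eq_zero]
    exact h1
  · intro hr
    rw [← algebraMap_smul S r n]
    exact Submodule.smul_mem_smul (Ideal.mem_map_of_mem _ hr) trivial

lemma ass_tensor_quotient_subset (p : Ideal R) [p.IsPrime] :
    FlatCA.ass S (N ⊗[R] (R ⧸ p)) ⊆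
      FlatCA.ass S (N ⧸ (p.map (algebraMap R S)) • (⊤ : Submodule S N)) := by
  rintro q ⟨hq, z, hz⟩
  obtain ⟨n, hn⟩ := Submodule.Quotient.mk_surjective _ (TensorProduct.tensorQuotEquivQuotSMul N p z)
  have hz' : z = n ⊗ₜ[R] (1 : R ⧸ p) := by
    rw [← TensorProduct.tensorQuotEquivQuotSMul_symm_mk, hn, LinearEquiv.symm_apply_apply]
  refine ⟨hq, Submodule.Quotient.mk n, ?_⟩
  ext s
  rw [hz, Submodule.mem_annihilator_span_singleton, Submodule.mem_annihilator_span_singleton,
    ← Submodule.Quotient.mk_smul, Submodule.Quotient.mk_eq_zero, hz', smul_tmul',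
    ← TensorProduct.tensorQuotEquivQuotSMul_symm_mk, LinearEquiv.map_eq_zero_iff,
    Submodule.Quotient.mk_eq_zero]
  exact ⟨fun h => smul_top_le N p h, fun h => le_smul_top N p h⟩

/-- **B_fin ⊆ A_fin**. -/
theorem mem_ass_quotient_of_mem_ass_tensor [IsNoetherianRing R] [Module.Flat R N]
    (M : Type u) [AddCommGroup M] [Module R M] [Module.Finite R M] (p : Ideal R) [p.IsPrime]
    (q : Ideal S) (hq : q.comap (algebraMap R S) = p) (h : q ∈ FlatCA.ass S (N ⊗[R] M)) :
    q ∈ FlatCA.ass S (N ⧸ (p.map (algebraMap R S)) • (⊤ : Submodule S N)) := by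
  revert h
  induction ‹Module.Finite R M› using
    IsNoetherianRing.induction_on_isQuotientEquivQuotientPrime R with
  | subsingleton M =>
    intro h
    rw [ass_eq_empty_of_subsingleton] at h
    exact absurd h (Set.notMem_empty _)
  | quotient M p' f =>
    intro h
    have h1 : q ∈ FlatCA.ass S (N ⊗[R] (R ⧸ p'.1)) :=
      ass_subset_of_injective
        (TensorProduct.AlgebraTensorModule.congr (LinearEquiv.refl S N) f).toLinearMap
        (TensorProduct.AlgebraTensorModule.congr (LinearEquiv.refl S N) f).injective h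
    have h2 := ass_tensor_quotient_subset N p'.1 h1
    have h3 := comap_eq_of_mem_ass_quotient N p'.1 q h2
    have h4 : p'.1 = p := h3.symm.trans hq
    subst h4
    exact h2
  | exact M₁ M₂ M₃ f g hf hg hfg h₁ h₃ =>
    intro h
    have hF : Function.Injective
        (TensorProduct.AlgebraTensorModule.map (LinearMap.id : N →ₗ[S] N) f) :=
      Module.Flat.lTensor_preserves_injective_linearMap f hf
    have hFG : Function.Exact
        (TensorProduct.AlgebraTensorModule.map (LinearMap.id : N →ₗ[S] N) f)
        (TensorProduct.AlgebraTensorModule.map (LinearMap.id : N →ₗ[S] N) g) :=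
      lTensor_exact N hfg hg
    rcases ass_subset_union_of_exact _ _ hF hFG h with h' | h'
    · exact h₁ h'
    · exact h₃ h'

end H5FiberAss
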