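import Groth.Prelude.Def_FlatCA
import Mathlib

/-!
# Associated primes of fibre modules: basic tools (helper5)
-/

set_option autoImplicit false
universe u

open TensorProduct

namespace H5FiberAss

attribute [local instance] Algebra.TensorProduct.rightAlgebra

variable {R S : Type u} [CommRing R] [CommRing S] [Algebra R S] (N : Type u) [AddCommGroup N]
  [Module S N] [Module R N] [IsScalarTower R S N] (p : Ideal R) [p.IsPrime]

open FlatCA

/-- the `S`-action on the fibre module is the restriction of the `F`-action. -/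
lemma smul_eq' (s : S) (x : (p.Fiber S) ⊗[S] N) :
    s • x = ((1 : p.ResidueField) ⊗ₜ[R] s : p.Fiber S) • x := by
  induction x with
  | zero => simp
  | add x y hx hy => rw [smul_add, hx, hy, smul_add]
  | tmul f n =>
    rw [TensorProduct.smul_tmul', TensorProduct.smul_tmul']
    congr 1

lemma smul_eq (s : S) (x : fiberMod p S N) :
    s • x = ((1 : p.ResidueField) ⊗ₜ[R] s : p.Fiber S) • x := smul_eq' N p s x

lemma one_tmul_eq_smul_one (s : S) :
    ((1 : p.ResidueField) ⊗ₜ[R] s : p.Fiber S) = s • (1 : p.Fiber S) := by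
  rw [Algebra.smul_def, mul_one]; rfl

lemma exists_smul_eq' (x : (p.Fiber S) ⊗[S] N) :
    ∃ r ∉ p, ∃ n : N, algebraMap R S r • x = (1 : p.Fiber S) ⊗ₜ[S] n := by
  induction x with
  | zero => exact ⟨1, fun h => (Ideal.IsPrime.ne_top ‹_›) ((Ideal.eq_top_iff_one _).2 h), 0, by simp⟩
  | add x y hx hy =>
    obtain ⟨r, hr, n, h1⟩ := hx
    obtain ⟨r', hr', n', h2⟩ := hy
    refine ⟨r * r', fun h => ?_, algebraMap R S r' • n + algebraMap R S r • n', ?_⟩
    · rcases Ideal.IsPrime.mem_or_mem ‹_› h with h | h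
      exacts [hr h, hr' h]
    · have e1 : algebraMap R S (r * r') • x = (1 : p.Fiber S) ⊗ₜ[S] (algebraMap R S r' • n) := by
        rw [mul_comm, map_mul, mul_smul, h1, ← tmul_smul]
      have e2 : algebraMap R S (r * r') • y = (1 : p.Fiber S) ⊗ₜ[S] (algebraMap R S r • n') := by
        rw [map_mul, mul_smul, h2, ← tmul_smul]
      rw [smul_add, e1, e2, tmul_add]
  | tmul f n =>
    obtain ⟨r, hr, s, e⟩ := Ideal.Fiber.exists_smul_eq_one_tmul p f
    refine ⟨r, hr, s • n, ?_⟩
    rw [smul_tmul', algebraMap_smul, e, one_tmul_eq_smul_one, smul_tmul]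

lemma smul_top_le : ((p • (⊤ : Submodule R N) : Submodule R N) : Set N) ⊆
    ((p.map (algebraMap R S)) • (⊤ : Submodule S N) : Submodule S N) := by
  intro x hx
  refine Submodule.smul_induction_on hx ?_ ?_
  · intro r hr n _
    rw [← algebraMap_smul S r n]
    exact Submodule.smul_mem_smul (Ideal.mem_map_of_mem _ hr) trivial
  · intro x y hx hy
    exact add_mem hx hy

lemma one_tmul_eq_zero' (n : N) (h : (1 : p.Fiber S) ⊗ₜ[S] n = 0) :
    ∃ r ∉ p, r • n ∈ (p.map (algebraMap R S)) • (⊤ : Submodule S N) := by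
  have h1 : (1 : p.ResidueField) ⊗ₜ[R] n = 0 := by
    rw [← Algebra.IsPushout.cancelBaseChange_tmul R p.ResidueField S (p.Fiber S) N n, h, map_zero]
  have h2 : (1 : p.ResidueField) ⊗ₜ[R ⧸ p] ((1 : R ⧸ p) ⊗ₜ[R] n) = 0 := by
    rw [← TensorProduct.AlgebraTensorModule.cancelBaseChange_symm_tmul R (R ⧸ p) p.ResidueField
      (1 : p.ResidueField) n, h1, map_zero]
  have h3 := (IsLocalizedModule.eq_zero_iff (nonZeroDivisors (R ⧸ p))
    (TensorProduct.mk (R ⧸ p) p.ResidueField ((R ⧸ p) ⊗[R] N) 1)).1 h2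
  obtain ⟨⟨c, hc⟩, h4⟩ := h3
  obtain ⟨r, rfl⟩ := Ideal.Quotient.mk_surjective c
  refine ⟨r, fun hr => ?_, ?_⟩
  · have := nonZeroDivisors.ne_zero hc
    exact this (Ideal.Quotient.eq_zero_iff_mem.2 hr)
  · apply smul_top_le
    have h5 : (Ideal.Quotient.mk p r) ⊗ₜ[R] n = (0 : (R ⧸ p) ⊗[R] N) := by
      rw [← h4]
      change _ = (Ideal.Quotient.mk p r) • ((1 : R ⧸ p) ⊗ₜ[R] n)
      rw [smul_tmul', smul_eq_mul, mul_one]
    have h6 := congrArg (TensorProduct.quotTensorEquivQuotSMul N p) h5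
    rw [TensorProduct.quotTensorEquivQuotSMul_mk_tmul, map_zero, Submodule.Quotient.mk_eq_zero] at h6
    exact h6

lemma algebraMap_fiber_of_mem {r : R} (hr : r ∈ p) :
    algebraMap S (p.Fiber S) (algebraMap R S r) = 0 := by
  rw [← IsScalarTower.algebraMap_apply R S (p.Fiber S),
    IsScalarTower.algebraMap_apply R p.ResidueField (p.Fiber S)]
  rw [(Ideal.algebraMap_residueField_eq_zero (I := p)).2 hr, map_zero]

lemma map_le_ker : p.map (algebraMap R S) ≤ RingHom.ker (algebraMap S (p.Fiber S)) := by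
  rw [Ideal.map_le_iff_le_comap]
  intro r hr
  exact algebraMap_fiber_of_mem p hr

lemma isUnit_algebraMap_fiber' {r : R} (hr : r ∉ p) :
    IsUnit (algebraMap R (p.Fiber S) r) := by
  rw [IsScalarTower.algebraMap_apply R p.ResidueField (p.Fiber S)]
  apply IsUnit.map
  rw [isUnit_iff_ne_zero, Ne, Ideal.algebraMap_residueField_eq_zero]
  exact hr

lemma isUnit_algebraMap_fiber {r : R} (hr : r ∉ p) :
    IsUnit (algebraMap S (p.Fiber S) (algebraMap R S r)) := by
  rw [← IsScalarTower.algebraMap_apply R S (p.Fiber S)]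
  exact isUnit_algebraMap_fiber' p hr

lemma one_tmul_of_mem {x : N} (hx : x ∈ (p.map (algebraMap R S)) • (⊤ : Submodule S N)) :
    (1 : p.Fiber S) ⊗ₜ[S] x = 0 := by
  refine Submodule.smul_induction_on hx ?_ ?_
  · intro a ha n _
    rw [← smul_tmul, Algebra.smul_def, mul_one, map_le_ker p ha, zero_tmul]
  · intro x y hx hy
    rw [tmul_add, hx, hy, add_zero]

lemma smul_eq_zero_imp {r : R} (hr : r ∉ p) (x : (p.Fiber S) ⊗[S] N)
    (h : algebraMap R S r • x = 0) : x = 0 := by
  obtain ⟨u, hu⟩ := isUnit_algebraMap_fiber (S := S) p hr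
  have : u • x = 0 := by
    rw [Units.smul_def, hu, algebraMap_smul]; exact h
  simpa using congrArg (fun y => u⁻¹ • y) this

lemma one_tmul_eq_zero_iff' (n : N) : (1 : p.Fiber S) ⊗ₜ[S] n = 0 ↔
    ∃ r ∉ p, r • n ∈ (p.map (algebraMap R S)) • (⊤ : Submodule S N) := by
  refine ⟨one_tmul_eq_zero' N p n, ?_⟩
  rintro ⟨r, hr, h⟩
  have := one_tmul_of_mem N p h
  rw [← algebraMap_smul S r n, tmul_smul] at this
  exact smul_eq_zero_imp N p hr _ this

/-! ### Statements for `fiberMod` -/

lemma toFiberMod_eq_zero_iff (n : N) : toFiberMod p S N n = 0 ↔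
    ∃ r ∉ p, r • n ∈ (p.map (algebraMap R S)) • (⊤ : Submodule S N) :=
  one_tmul_eq_zero_iff' N p n

lemma exists_smul_eq_toFiberMod (x : fiberMod p S N) :
    ∃ r ∉ p, ∃ n : N, algebraMap R S r • x = toFiberMod p S N n :=
  exists_smul_eq' N p x

lemma smul_eq_zero_iff {r : R} (hr : r ∉ p) (x : fiberMod p S N) :
    algebraMap R S r • x = 0 ↔ x = 0 :=
  ⟨smul_eq_zero_imp N p hr x, fun h => by rw [h, smul_zero]⟩

/-- membership in the `S`-annihilator of an element of the fibre module is unchanged by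
multiplying the element by `r ∉ p`. -/
lemma smul_smul_eq_zero_iff {r : R} (hr : r ∉ p) (s : S) (x : fiberMod p S N) :
    s • (algebraMap R S r • x) = 0 ↔ s • x = 0 := by
  rw [smul_comm, smul_eq_zero_iff N p hr]

/-- `F`-scalars: multiplying by `r ∉ p` does not change annihilation. -/
lemma fiber_smul_eq_zero_iff {r : R} (hr : r ∉ p) (f : p.Fiber S) (x : fiberMod p S N) :
    (r • f) • x = 0 ↔ f • x = 0 := by
  obtain ⟨u, hu⟩ := isUnit_algebraMap_fiber' (S := S) p hr
  rw [Algebra.smul_def, ← hu, mul_smul, ← Units.smul_def]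
  constructor
  · intro h
    simpa using congrArg (fun y => u⁻¹ • y) h
  · intro h
    rw [h, smul_zero]

end H5FiberAss
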