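import Groth.Agent.Lib.Helper5.FlatCA.FiberAss

set_option autoImplicit false
universe u

open TensorProduct

namespace H5FiberAss

variable {R S : Type u} [CommRing R] [CommRing S] [Algebra R S] (N : Type u) [AddCommGroup N]
  [Module S N] [Module R N] [IsScalarTower R S N] (p : Ideal R) [p.IsPrime]

open FlatCA

lemma le_smul_top : (((p.map (algebraMap R S)) • (⊤ : Submodule S N) : Submodule S N) : Set N) ⊆
    (p • (⊤ : Submodule R N) : Submodule R N) := by
  intro x hx
  have key : ∀ a ∈ p.map (algebraMap R S), ∀ n : N, a • n ∈ (p • (⊤ : Submodule R N) : Submodule R N) := by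
    intro a ha
    refine Submodule.span_induction ?_ ?_ ?_ ?_ ha
    · rintro _ ⟨r, hr, rfl⟩ n
      rw [algebraMap_smul]
      exact Submodule.smul_mem_smul hr trivial
    · intro n; rw [zero_smul]; exact zero_mem _
    · intro a b _ _ ha hb n
      rw [add_smul]; exact add_mem (ha n) (hb n)
    · intro s b _ hb n
      rw [smul_eq_mul, mul_comm, mul_smul]
      exact hb _
  refine Submodule.smul_induction_on hx ?_ ?_
  · intro a ha n _
    exact key a ha n
  · intro x y hx hy
    exact add_mem hx hy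

/-- For a flat module `N`, elements outside `p` act injectively on `N/pN`. -/
lemma mem_of_smul_mem_of_flat [Module.Flat R N] {r : R} (hr : r ∉ p) {n : N}
    (h : r • n ∈ (p.map (algebraMap R S)) • (⊤ : Submodule S N)) :
    n ∈ (p.map (algebraMap R S)) • (⊤ : Submodule S N) := by
  apply smul_top_le
  have h1 : r • n ∈ (p • (⊤ : Submodule R N) : Submodule R N) := le_smul_top N p h
  have h2 : (Ideal.Quotient.mk p r) ⊗ₜ[R] n = (0 : (R ⧸ p) ⊗[R] N) := by
    apply (TensorProduct.quotTensorEquivQuotSMul N p).injective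
    rw [TensorProduct.quotTensorEquivQuotSMul_mk_tmul, map_zero, Submodule.Quotient.mk_eq_zero]
    exact h1
  have hreg : IsSMulRegular ((R ⧸ p) ⊗[R] N) (Ideal.Quotient.mk p r) := by
    have hmem : Ideal.Quotient.mk p r ∈ nonZeroDivisors (R ⧸ p) := by
      rw [mem_nonZeroDivisors_iff_ne_zero, Ne, Ideal.Quotient.eq_zero_iff_mem]
      exact hr
    exact Module.Flat.isSMulRegular_of_nonZeroDivisors (M := (R ⧸ p) ⊗[R] N) hmem
  have h3 : (1 : R ⧸ p) ⊗ₜ[R] n = (0 : (R ⧸ p) ⊗[R] N) := by
    apply hreg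
    change (Ideal.Quotient.mk p r) • ((1 : R ⧸ p) ⊗ₜ[R] n) = (Ideal.Quotient.mk p r) • (0 : (R ⧸ p) ⊗[R] N)
    rw [smul_tmul', smul_eq_mul, mul_one, h2, smul_zero]
  have h4 := congrArg (TensorProduct.quotTensorEquivQuotSMul N p) h3
  rw [TensorProduct.quotTensorEquivQuotSMul_mk_one_tmul, map_zero, Submodule.Quotient.mk_eq_zero] at h4
  exact h4

lemma toFiberMod_eq_zero_iff_of_flat [Module.Flat R N] (n : N) : toFiberMod p S N n = 0 ↔
    n ∈ (p.map (algebraMap R S)) • (⊤ : Submodule S N) := by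
  rw [toFiberMod_eq_zero_iff]
  constructor
  · rintro ⟨r, hr, h⟩
    exact mem_of_smul_mem_of_flat N p hr h
  · intro h
    refine ⟨1, fun h1 => (Ideal.IsPrime.ne_top ‹p.IsPrime›) ((Ideal.eq_top_iff_one _).2 h1), ?_⟩
    rwa [one_smul]

end H5FiberAss
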